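import Cfsg.Agent.H527.RC.Defs
import Cfsg.Agent.H933.CommDim

/-!
# Orbits and fixed points (helper855, S4191)

* `orbs_of_card` : more than `k |H|` points with a property give `k + 1` orbits;
* `card_fix_le` : the `3/4` bound of S5876 for primitive solvable groups `H` on `W`.
-/

set_option autoImplicit false

namespace Cfsg.Agent.H855.RC

open scoped Pointwise commutatorElement
open Cfsg.Agent.H527.RC Cfsg.Agent.H933

universe u

theorem orbs_of_card {H W : Type*} [Group H] [Finite H] [MulAction H W] [Finite W] :
    ∀ (k : ℕ) (T : Set W), k * Nat.card H < T.ncard → Orbs H (k + 1) (fun w => w ∈ T) := by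
  intro k
  induction k with
  | zero =>
    intro T hT
    rw [zero_mul, Set.ncard_pos] at hT
    obtain ⟨w, hw⟩ := hT
    exact ⟨fun _ => w, fun _ => hw, fun i j _ _ => Fin.ext (by omega)⟩
  | succ k ih =>
    intro T hT
    have h0 : 0 < T.ncard := by omega
    rw [Set.ncard_pos] at h0
    obtain ⟨w, hw⟩ := h0
    have h1 : (MulAction.orbit H w).ncard ≤ Nat.card H := by
      have h2 : (MulAction.orbit H w) = Set.range (fun h : H => h • w) := rfl
      rw [h2, ← Set.image_univ]
      refine (Set.ncard_image_le Set.finite_univ).trans ?_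
      rw [Set.ncard_univ]
    have h2 : k * Nat.card H < (T \ MulAction.orbit H w).ncard := by
      have h3 := Set.le_ncard_sdiff (MulAction.orbit H w) T (Set.toFinite _)
      rw [Nat.succ_mul] at hT
      omega
    obtain ⟨f, hf1, hf2⟩ := ih _ h2
    refine ⟨Fin.cons w f, ?_, ?_⟩
    · intro i
      refine Fin.cases hw (fun i => (hf1 i).1) i
    · intro i j
      refine Fin.cases ?_ (fun i => ?_) i
      · refine Fin.cases (fun _ _ => rfl) (fun j h hh => ?_) j
        exfalso
        exact (hf1 j).2 ⟨h, hh⟩
      · refine Fin.cases (fun h hh => ?_) (fun j h hh => ?_) j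
        · exfalso
          rw [Fin.cons_succ, Fin.cons_zero] at hh
          exact (hf1 i).2 ⟨h⁻¹, by rw [← hh]; exact inv_smul_smul h (f i)⟩
        · rw [Fin.cons_succ, Fin.cons_succ] at hh
          rw [hf2 i j h hh]

theorem orbs_mono {H W : Type*} [Group H] [MulAction H W] {k : ℕ} {P Q : W → Prop} (h : ∀ w, P w → Q w)
    (hP : Orbs H k P) : Orbs H k Q := by
  obtain ⟨f, h1, h2⟩ := hP
  exact ⟨f, fun i => h _ (h1 i), h2⟩

/-- the action as a linear representation -/
def rhoH {H W : Type u} [Group H] [AddCommGroup W] [DistribMulAction H W] (r : ℕ) [Fact r.Prime]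
    [Module (ZMod r) W] : H →* Module.End (ZMod r) W where
  toFun h := AddMonoidHom.toZModLinearMap r (DistribSMul.toAddMonoidHom W h)
  map_one' := by
    apply LinearMap.ext
    intro w
    exact one_smul H w
  map_mul' := by
    intro a b
    apply LinearMap.ext
    intro w
    exact mul_smul a b w

theorem rhoH_apply {H W : Type u} [Group H] [AddCommGroup W] [DistribMulAction H W] (r : ℕ) [Fact r.Prime]
    [Module (ZMod r) W] (h : H) (w : W) : rhoH r h w = h • w := rfl

section

variable {H W : Type u} [Group H] [Finite H] [Group.IsSolvable H] [AddCommGroup W] [Finite W] [Nontrivial W]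
  [DistribMulAction H W]

theorem card_fix_le_aux {r : ℕ} [hrf : Fact r.Prime] [Module (ZMod r) W]
    (hfaith : ∀ h : H, (∀ w : W, h • w = w) → h = 1)
    (hirr : ∀ X : AddSubgroup W, (∀ g : H, ∀ w ∈ X, g • w ∈ X) → X = ⊥ ∨ X = ⊤) (hI : ¬ Imp H W) {y : H}
    (hy : y ≠ 1) : Nat.card {w : W // y • w = w} ^ 4 ≤ Nat.card W ^ 3 := by
  classical
  have hfd : FiniteDimensional (ZMod r) W := Module.Finite.of_finite
  set ρ : H →* Module.End (ZMod r) W := rhoH r with hρdef
  have hρ : ∀ (h : H) (w : W), ρ h w = h • w := fun h w => rfl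
  have hinj : Function.Injective ρ := by
    rw [injective_iff_map_eq_one]
    intro h hh
    apply hfaith
    intro w
    rw [← hρ, hh]
    rfl
  have hirr' : Irred ρ := by
    intro X hX
    rcases hirr X.toAddSubgroup (by
      intro g w hw
      exact hX g ⟨w, hw, rfl⟩) with h | h
    · left
      rw [eq_bot_iff]
      intro w hw
      have h1 : w ∈ X.toAddSubgroup := hw
      rw [h, AddSubgroup.mem_bot] at h1
      exact h1
    · right
      rw [eq_top_iff]
      intro w _
      have h1 : w ∈ X.toAddSubgroup := by rw [h]; exact AddSubgroup.mem_top w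
      exact h1
  have hprim : NoDecomp ρ := by
    intro m t E ht hm hfin hind hsup hall
    apply hI
    choose σ hσ using hall
    have hne : ∀ i, E i ≠ ⊥ := by
      intro i h
      have := hfin i
      rw [h, finrank_bot] at this
      omega
    have hinjE : Function.Injective (fun i => (E i).toAddSubgroup) := by
      intro i j hij
      have h1 : E i = E j := Submodule.toAddSubgroup_injective hij
      by_contra hcon
      have h2 := hind.pairwiseDisjoint hcon
      change Disjoint (E i) (E j) at h2
      rw [h1, disjoint_self] at h2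
      exact hne j h2
    refine ⟨Set.range (fun i => (E i).toAddSubgroup), Set.finite_range _, ?_, ?_, ?_, ?_, ?_⟩
    · rw [← Set.image_univ, Set.ncard_image_of_injective _ hinjE, Set.ncard_univ, Nat.card_eq_fintype_card,
        Fintype.card_fin]
      exact ht
    · rintro _ ⟨i, rfl⟩ h
      apply hne i
      apply Submodule.toAddSubgroup_injective
      have h' : (E i).toAddSubgroup = ⊥ := h
      rw [h']
      rfl
    · rintro g _ ⟨i, rfl⟩
      refine ⟨σ g i, ?_⟩
      change (E (σ g i)).toAddSubgroup = g • (E i).toAddSubgroup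
      rw [← hσ]
      ext w
      constructor
      · rintro ⟨v, hv, rfl⟩
        exact ⟨v, hv, rfl⟩
      · rintro ⟨v, hv, rfl⟩
        exact ⟨v, hv, rfl⟩
    · have h1 : iSupIndep (fun i => (E i).toAddSubgroup) :=
        (iSupIndep_map_orderIso_iff (AddSubgroup.toZModSubmodule r : AddSubgroup W ≃o Submodule (ZMod r) W).symm
          (a := E)).2 hind
      exact h1.sSupIndep_range
    · have h1 := (AddSubgroup.toZModSubmodule r : AddSubgroup W ≃o Submodule (ZMod r) W).symm.map_iSup E
      rw [hsup, OrderIso.map_top] at h1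
      exact h1.symm
  have h1 := solvable_fix_bound ρ hinj hirr' hprim y hy
  have h2 : Nat.card {w : W // y • w = w} = r ^ Module.finrank (ZMod r) (Module.End.eigenspace (ρ y) 1) := by
    have h3 := Module.natCard_eq_pow_finrank (K := ZMod r) (V := Module.End.eigenspace (ρ y) 1)
    rw [Nat.card_zmod] at h3
    rw [← h3]
    refine Nat.card_congr (Equiv.subtypeEquivRight fun w => ?_)
    rw [Module.End.mem_eigenspace_iff, one_smul, hρ]
  have h3 : Nat.card W = r ^ Module.finrank (ZMod r) W := by
    have h4 := Module.natCard_eq_pow_finrank (K := ZMod r) (V := W)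
    rwa [Nat.card_zmod] at h4
  rw [h2, h3, ← pow_mul, ← pow_mul]
  exact Nat.pow_le_pow_right hrf.out.pos (by omega)

/-- **S5876** -/
theorem card_fix_le {r : ℕ} (hr : r.Prime) (hrW : ∀ w : W, r • w = 0)
    (hfaith : ∀ h : H, (∀ w : W, h • w = w) → h = 1)
    (hirr : ∀ X : AddSubgroup W, (∀ g : H, ∀ w ∈ X, g • w ∈ X) → X = ⊥ ∨ X = ⊤) (hI : ¬ Imp H W) {y : H}
    (hy : y ≠ 1) : Nat.card {w : W // y • w = w} ^ 4 ≤ Nat.card W ^ 3 := by
  have hrf : Fact r.Prime := ⟨hr⟩
  let _ : Module (ZMod r) W := AddCommGroup.zmodModule hrW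
  exact card_fix_le_aux (r := r) hfaith hirr hI hy

end

end Cfsg.Agent.H855.RC
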