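import Cfsg.Agent.H855.RC.Gen
import Cfsg.Agent.H855.RC.Orb
import Cfsg.Agent.H855.RC.Small
import Cfsg.Agent.H120.RC.Ord
import Cfsg.Agent.H273.RC.FHS
import Cfsg.Agent.H822.Cls.Plug
import Cfsg.Agent.Transfer.ElemAbAut

/-!
# PR2: primitive linear groups with a normal `2`-complement (helper855, S4191)
-/

set_option autoImplicit false
set_option linter.unusedSectionVars false

namespace Cfsg.Agent.H855.RC

open scoped Pointwise commutatorElement
open Cfsg.Agent.H527.RC Cfsg.Agent.H822.Cls Cfsg.Agent.H668.Dim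

universe u

/-! ### Counting good vectors -/

theorem many_good {H W : Type u} [Group H] [Finite H] [AddCommGroup W] [Finite W] [DistribMulAction H W]
    {L : Subgroup H} {p t : ℕ}
    (hfix : ∀ y : H, y ≠ 1 → Nat.card {w : W // y • w = w} ^ 4 ≤ Nat.card W ^ 3)
    (hV : 256 * Nat.card H ^ 4 < Nat.card W) : 3 * Nat.card H < {w : W | Gd p t L w}.ncard := by
  classical
  have := Fintype.ofFinite H
  set N := Nat.card H with hN
  set V := Nat.card W with hVdef
  have hN1 : 1 ≤ N := Nat.card_pos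
  have hfix' : ∀ y : H, y ≠ 1 → 4 * N * Nat.card {w : W // y • w = w} ≤ V := by
    intro y hy
    have h1 := hfix y hy
    set c := Nat.card {w : W // y • w = w} with hc
    by_contra hcon
    push Not at hcon
    have h2 : V ^ 4 < (4 * N * c) ^ 4 := Nat.pow_lt_pow_left hcon (by norm_num)
    have h3 : (4 * N * c) ^ 4 ≤ 256 * N ^ 4 * V ^ 3 := by
      calc (4 * N * c) ^ 4 = 256 * N ^ 4 * c ^ 4 := by ring
        _ ≤ 256 * N ^ 4 * V ^ 3 := Nat.mul_le_mul_left _ h1
    have h4 : 256 * N ^ 4 * V ^ 3 ≤ V * V ^ 3 := Nat.mul_le_mul_right _ hV.le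
    have h5 : V * V ^ 3 = V ^ 4 := by ring
    omega
  set B : Set W := {w : W | ¬ Gd p t L w} with hB
  have hsub : B ⊆ ⋃ y ∈ (Finset.univ.filter fun y : H => y ≠ 1), {w : W | y • w = w} := by
    intro w hw
    have hw' : ¬ Gd p t L w := hw
    unfold Gd at hw'
    push Not at hw'
    obtain ⟨y, -, hy, hbad⟩ := hw'
    rw [Set.mem_iUnion₂]
    refine ⟨y, ?_, hy⟩
    rw [Finset.mem_filter]
    refine ⟨Finset.mem_univ _, ?_⟩
    rintro rfl
    apply hbad
    have h1 : (⁅L, Subgroup.zpowers (1 : H)⁆ : Subgroup H) = ⊥ := by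
      rw [Subgroup.zpowers_one_eq_bot, Subgroup.commutator_bot_right]
    rw [h1]
    exact FH.of_subsingleton _
  have h1 : B.ncard ≤ ∑ y ∈ (Finset.univ.filter fun y : H => y ≠ 1), ({w : W | y • w = w}).ncard :=
    (Set.ncard_le_ncard hsub (Set.toFinite _)).trans (Finset.set_ncard_biUnion_le _ _)
  have h2 : 4 * N * B.ncard ≤ N * V := by
    calc 4 * N * B.ncard ≤ 4 * N * ∑ y ∈ (Finset.univ.filter fun y : H => y ≠ 1), ({w : W | y • w = w}).ncard :=
          Nat.mul_le_mul_left _ h1
      _ = ∑ y ∈ (Finset.univ.filter fun y : H => y ≠ 1), 4 * N * ({w : W | y • w = w}).ncard := by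
          rw [Finset.mul_sum]
      _ ≤ ∑ y ∈ (Finset.univ.filter fun y : H => y ≠ 1), V := by
          refine Finset.sum_le_sum fun y hy => ?_
          exact hfix' y (Finset.mem_filter.1 hy).2
      _ ≤ N * V := by
          rw [Finset.sum_const, smul_eq_mul]
          refine Nat.mul_le_mul_right _ ?_
          rw [hN, Nat.card_eq_fintype_card]
          exact Finset.card_le_univ _
  have h3 : 4 * B.ncard ≤ V := by
    have h4 : N * (4 * B.ncard) ≤ N * V := by
      calc N * (4 * B.ncard) = 4 * N * B.ncard := by ring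
        _ ≤ N * V := h2
    exact Nat.le_of_mul_le_mul_left h4 hN1
  have h4 : {w : W | Gd p t L w}.ncard + B.ncard = V := by
    have h5 : B = {w : W | Gd p t L w}ᶜ := rfl
    rw [h5, Set.ncard_add_ncard_compl]
  have h6 : N ≤ N ^ 4 := Nat.le_self_pow (by norm_num) N
  omega

/-! ### Numbers -/

theorem pow_step {c b n k : ℕ} (hb : 0 < b) (hbc : (b + 1) ^ n ≤ c ^ k * b ^ n) {e : ℕ} (he : b ≤ e) :
    (e + 1) ^ n ≤ c ^ k * e ^ n := by
  have h1 : b * (e + 1) ≤ (b + 1) * e := by nlinarith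
  have h2 : b ^ n * (e + 1) ^ n ≤ (b + 1) ^ n * e ^ n := by
    rw [← mul_pow, ← mul_pow]
    exact Nat.pow_le_pow_left h1 n
  have h3 : b ^ n * (e + 1) ^ n ≤ b ^ n * (c ^ k * e ^ n) := by
    calc b ^ n * (e + 1) ^ n ≤ (b + 1) ^ n * e ^ n := h2
      _ ≤ (c ^ k * b ^ n) * e ^ n := Nat.mul_le_mul_right _ hbc
      _ = b ^ n * (c ^ k * e ^ n) := by ring
  exact Nat.le_of_mul_le_mul_left h3 (pow_pos hb n)

/-- `a e ^ n < c ^ (k e - s)` -/
theorem pow_ineq {a b c n k s : ℕ} (hb : 0 < b) (hs : s ≤ k * b) (hbc : (b + 1) ^ n ≤ c ^ k * b ^ n)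
    (h0 : a * b ^ n < c ^ (k * b - s)) : ∀ e : ℕ, b ≤ e → a * e ^ n < c ^ (k * e - s) := by
  intro e he
  induction e, he using Nat.le_induction with
  | base => exact h0
  | succ e he ih =>
    have h1 := pow_step hb hbc he
    have h2 : k * b ≤ k * e := Nat.mul_le_mul_left _ he
    have h3 : k * (e + 1) - s = (k * e - s) + k := by
      rw [Nat.mul_succ]
      omega
    rw [h3, pow_add]
    calc a * (e + 1) ^ n ≤ a * (c ^ k * e ^ n) := Nat.mul_le_mul_left _ h1
      _ = (a * e ^ n) * c ^ k := by ring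
      _ < c ^ (k * e - s) * c ^ k := by
        refine Nat.mul_lt_mul_of_pos_right ih ?_
        rcases Nat.eq_zero_or_pos (c ^ k) with h | h
        · rw [h, zero_mul] at h1
          have := Nat.pos_of_ne_zero (show (e + 1) ^ n ≠ 0 from pow_ne_zero _ (Nat.succ_ne_zero e))
          omega
        · exact h

theorem num_bad {f g e N V : ℕ} (hf : 0 < f) (hg : g ^ 2 ≤ f) (he6 : 6 ≤ e) (hN : N ≤ g * (f - 1) * e ^ 8)
    (hV : f ^ e ≤ V) (h : 256 * e ^ 32 < f ^ (e - 6)) : 256 * N ^ 4 < V := by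
  have h1 : N ^ 4 ≤ f ^ 6 * e ^ 32 := by
    calc N ^ 4 ≤ (g * (f - 1) * e ^ 8) ^ 4 := Nat.pow_le_pow_left hN 4
      _ = (g ^ 2) ^ 2 * (f - 1) ^ 4 * e ^ 32 := by ring
      _ ≤ f ^ 2 * f ^ 4 * e ^ 32 := by
          gcongr
          omega
      _ = f ^ 6 * e ^ 32 := by ring
  calc 256 * N ^ 4 ≤ f ^ 6 * (256 * e ^ 32) := by
        calc 256 * N ^ 4 ≤ 256 * (f ^ 6 * e ^ 32) := Nat.mul_le_mul_left _ h1
          _ = f ^ 6 * (256 * e ^ 32) := by ring
    _ < f ^ 6 * f ^ (e - 6) := Nat.mul_lt_mul_of_pos_left h (pow_pos hf 6)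
    _ = f ^ e := by rw [← pow_add, Nat.add_sub_cancel' he6]
    _ ≤ V := hV

theorem num_good {f g e N V : ℕ} (hf : 0 < f) (hg : g ^ 2 ≤ f) (he : 3 ≤ 2 * e)
    (hN : N ≤ g * (f - 1) * e ^ 8) (hN0 : 0 < N)
    (hV : f ^ e ≤ V) (h : 4 * e ^ 16 < f ^ (2 * e - 3)) : 2 * N + 1 < V := by
  have h0 : 0 < g * (f - 1) * e ^ 8 := lt_of_lt_of_le hN0 hN
  have hge : 0 < g * e ^ 8 := by
    rcases Nat.eq_zero_or_pos (g * e ^ 8) with h1 | h1
    · rw [show g * (f - 1) * e ^ 8 = (g * e ^ 8) * (f - 1) by ring, h1, zero_mul] at h0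
      exact absurd h0 (lt_irrefl 0)
    · exact h1
  have h1 : 2 * N + 2 ≤ 2 * g * f * e ^ 8 := by
    obtain ⟨f', rfl⟩ := Nat.exists_eq_succ_of_ne_zero hf.ne'
    rw [Nat.succ_sub_one] at hN
    have h2 : 2 * g * (f' + 1) * e ^ 8 = 2 * (g * f' * e ^ 8) + 2 * (g * e ^ 8) := by ring
    rw [Nat.succ_eq_add_one, h2]
    omega
  have h2 : (2 * g * f * e ^ 8) ^ 2 < (f ^ e) ^ 2 := by
    calc (2 * g * f * e ^ 8) ^ 2 = g ^ 2 * f ^ 2 * (4 * e ^ 16) := by ring
      _ ≤ f * f ^ 2 * (4 * e ^ 16) := by gcongr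
      _ = f ^ 3 * (4 * e ^ 16) := by ring
      _ < f ^ 3 * f ^ (2 * e - 3) := Nat.mul_lt_mul_of_pos_left h (pow_pos hf 3)
      _ = (f ^ e) ^ 2 := by rw [← pow_add, Nat.add_sub_cancel' he, ← pow_mul, mul_comm e 2]
  have h3 := lt_of_pow_lt_pow_left₀ 2 (Nat.zero_le _) h2
  omega

theorem sq_le_three_pow (g : ℕ) : g ^ 2 ≤ 3 ^ g := by
  induction g with
  | zero => norm_num
  | succ g ih =>
    rcases Nat.lt_or_ge g 2 with h | h
    · interval_cases g <;> norm_num
    · rw [pow_succ 3 g]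
      nlinarith

/-! ### The image on `X_q` -/

section

variable {H W F : Type u} [Group H] [Finite H] [AddCommGroup W] [Finite W] [Nontrivial W] [DistribMulAction H W]
  [Field F] [Finite F] [Module F W] (D : Prim H W F)

theorem exists_T [Group.IsSolvable H] {q : ℕ} (hq : q.Prime) {L : Subgroup H} [L.Normal] (hodd : ¬ 2 ∣ Nat.card L)
    (hne : im D q L ≠ ⊥) :
    ∃ (t j : ℕ) (T : Subgroup (rho D q).range), t.Prime ∧ t ≠ 2 ∧ t ≠ q ∧ T.Normal ∧ 1 ≤ j ∧ Nat.card T = t ^ j := by
  have hs : Group.IsSolvable (rho D q).range :=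
    Group.isSolvable_of_surjective (rho D q).rangeRestrict_surjective
  have hnt : Nontrivial (im D q L) := (Subgroup.nontrivial_iff_ne_bot _).2 hne
  obtain ⟨t, ht, hcore⟩ := exists_core (G := im D q L)
  have htf : Fact t.Prime := ⟨ht⟩
  have hc : (Cfsg.pCore t (im D q L)).Characteristic := Lib.Cores.pCore_characteristic t
  have htq : t ≠ q := by
    rintro rfl
    exact hcore (im_core D hq L _ (Lib.Cores.pCore_normal t) (Lib.Cores.pCore_isPGroup t))
  obtain ⟨j, hj⟩ := IsPGroup.iff_card.1 (Lib.Cores.pCore_isPGroup (G := im D q L) t)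
  have hj0 : 1 ≤ j := by
    by_contra h
    have h0 : j = 0 := by omega
    rw [h0, pow_zero, Subgroup.card_eq_one] at hj
    exact hcore hj
  have hcard : Nat.card ((Cfsg.pCore t (im D q L)).map (im D q L).subtype) = t ^ j := by
    rw [← hj]
    exact Nat.card_congr (Subgroup.equivMapOfInjective _ _ (im D q L).subtype_injective).toEquiv.symm
  refine ⟨t, j, (Cfsg.pCore t (im D q L)).map (im D q L).subtype, ht, ?_, htq, inferInstance, hj0, hcard⟩
  rintro rfl
  apply hodd
  have h1 : 2 ∣ Nat.card (Cfsg.pCore 2 (im D q L)) := by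
    rw [hj]
    exact dvd_pow_self 2 (by omega)
  exact h1.trans ((Subgroup.card_subgroup_dvd_card _).trans (Subgroup.card_map_dvd _ _))

theorem card_mulAut_XQ {Q : Finset ℕ} {m : ℕ → ℕ} (hD : D.Num Q m) {q : ℕ} (hq : q ∈ Q) :
    Nat.card (MulAut (XQ D q)) = ∏ i : Fin (2 * m q), (q ^ (2 * m q) - q ^ (i : ℕ)) := by
  have : Fact q.Prime := ⟨hD.prime q hq⟩
  exact Transfer.ElemAbAut.card_mulAut q (2 * m q) (fun x y => (XQ_comm D q).mul_comm x y) (cl_pow D q)
    (card_XQ D hD hq)

theorem card_dvd {Q : Finset ℕ} {m : ℕ → ℕ} (hD : D.Num Q m) {q : ℕ} (hq : q ∈ Q) (T : Subgroup (rho D q).range) :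
    Nat.card T ∣ ∏ i : Fin (2 * m q), (q ^ (2 * m q) - q ^ (i : ℕ)) := by
  rw [← card_mulAut_XQ D hD hq]
  exact (Subgroup.card_subgroup_dvd_card T).trans (Subgroup.card_subgroup_dvd_card _)

/-- `(q, m) ≠ (3, 1)` -/
theorem false_three [Group.IsSolvable H] {Q : Finset ℕ} {m : ℕ → ℕ} (hD : D.Num Q m) (hq : 3 ∈ Q) (hm : m 3 = 1)
    {L : Subgroup H} [L.Normal] (hodd : ¬ 2 ∣ Nat.card L) (hne : im D 3 L ≠ ⊥) : False := by
  obtain ⟨t, j, T, ht, ht2, ht3, -, hj, hT⟩ := exists_T D Nat.prime_three hodd hne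
  have h1 := card_dvd D hD hq T
  rw [hm, hT] at h1
  have h2 : (∏ i : Fin (2 * 1), (3 ^ (2 * 1) - 3 ^ (i : ℕ))) = 2 ^ 4 * 3 := by
    simp [Fin.prod_univ_succ]
  rw [h2] at h1
  have h3 : t ∣ 2 ^ 4 * 3 := (dvd_pow_self t (by omega)).trans h1
  rcases (ht.dvd_mul).1 h3 with h4 | h4
  · exact ht2 ((Nat.prime_dvd_prime_iff_eq ht Nat.prime_two).1 (ht.dvd_of_dvd_pow h4))
  · exact ht3 ((Nat.prime_dvd_prime_iff_eq ht Nat.prime_three).1 h4)

/-- `(q, m) = (5, 1)` -/
theorem range_five [Group.IsSolvable H] {Q : Finset ℕ} {m : ℕ → ℕ} (hD : D.Num Q m) (hq : 5 ∈ Q) (hm : m 5 = 1)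
    {L : Subgroup H} [L.Normal] (hodd : ¬ 2 ∣ Nat.card L) (hne : im D 5 L ≠ ⊥) :
    Nat.card (rho D 5).range ≤ 50 := by
  obtain ⟨t, j, T, ht, ht2, ht5, hTn, hj, hT⟩ := exists_T D Nat.prime_five hodd hne
  have h1 := card_dvd D hD hq T
  rw [hm, hT] at h1
  have h2 : (∏ i : Fin (2 * 1), (5 ^ (2 * 1) - 5 ^ (i : ℕ))) = 2 ^ 5 * 3 * 5 := by
    simp [Fin.prod_univ_succ]
  rw [h2] at h1
  have h3 : t ∣ 2 ^ 5 * 3 * 5 := (dvd_pow_self t (by omega)).trans h1
  have ht3 : t = 3 := by
    rcases (ht.dvd_mul).1 h3 with h4 | h4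
    · rcases (ht.dvd_mul).1 h4 with h5 | h5
      · exact absurd ((Nat.prime_dvd_prime_iff_eq ht Nat.prime_two).1 (ht.dvd_of_dvd_pow h5)) ht2
      · exact (Nat.prime_dvd_prime_iff_eq ht Nat.prime_three).1 h5
    · exact absurd ((Nat.prime_dvd_prime_iff_eq ht Nat.prime_five).1 h4) ht5
  subst ht3
  have hj1 : j = 1 := by
    by_contra hcon
    have h4 : 3 ^ 2 ∣ 2 ^ 5 * 3 * 5 := (pow_dvd_pow 3 (by omega)).trans h1
    omega
  rw [hj1, pow_one] at hT
  have hcard := card_XQ D hD hq
  rw [hm] at hcard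
  have h5 := small_bound (k := 2) Nat.prime_five Nat.prime_three (by norm_num) hcard hTn hT (by
    intro j h1 h2 h3
    interval_cases j
    · exact absurd h3 (by decide)
    · rfl)
  exact h5.trans (by norm_num)

/-- `(q, m) = (3, 2)` -/
theorem range_three [Group.IsSolvable H] {Q : Finset ℕ} {m : ℕ → ℕ} (hD : D.Num Q m) (hq : 3 ∈ Q) (hm : m 3 = 2)
    {L : Subgroup H} [L.Normal] (hodd : ¬ 2 ∣ Nat.card L) (hne : im D 3 L ≠ ⊥) :
    Nat.card (rho D 3).range ≤ 26244 := by
  obtain ⟨t, j, T, ht, ht2, ht3, hTn, hj, hT⟩ := exists_T D Nat.prime_three hodd hne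
  have h1 := card_dvd D hD hq T
  rw [hm, hT] at h1
  have h2 : (∏ i : Fin (2 * 2), (3 ^ (2 * 2) - 3 ^ (i : ℕ))) = 2 ^ 9 * 3 ^ 6 * 5 * 13 := by
    simp [Fin.prod_univ_succ]
  rw [h2] at h1
  have h3 : t ∣ 2 ^ 9 * 3 ^ 6 * 5 * 13 := (dvd_pow_self t (by omega)).trans h1
  have hcard := card_XQ D hD hq
  rw [hm] at hcard
  have ht5 : t = 5 ∨ t = 13 := by
    rcases (ht.dvd_mul).1 h3 with h4 | h4
    · rcases (ht.dvd_mul).1 h4 with h5 | h5
      · rcases (ht.dvd_mul).1 h5 with h6 | h6
        · exact absurd ((Nat.prime_dvd_prime_iff_eq ht Nat.prime_two).1 (ht.dvd_of_dvd_pow h6)) ht2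
        · exact absurd ((Nat.prime_dvd_prime_iff_eq ht Nat.prime_three).1 (ht.dvd_of_dvd_pow h6)) ht3
      · exact Or.inl ((Nat.prime_dvd_prime_iff_eq ht Nat.prime_five).1 h5)
    · exact Or.inr ((Nat.prime_dvd_prime_iff_eq ht (by norm_num)).1 h4)
  rcases ht5 with rfl | rfl
  · have hj1 : j = 1 := by
      by_contra hcon
      have h4 : 5 ^ 2 ∣ 2 ^ 9 * 3 ^ 6 * 5 * 13 := (pow_dvd_pow 5 (by omega)).trans h1
      omega
    rw [hj1, pow_one] at hT
    have h5 := small_bound (k := 4) Nat.prime_three Nat.prime_five (by norm_num) hcard hTn hT (by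
      intro j h1 h2 h3
      interval_cases j
      · exact absurd h3 (by decide)
      · exact absurd h3 (by decide)
      · exact absurd h3 (by decide)
      · rfl)
    exact h5.trans (by norm_num)
  · have hj1 : j = 1 := by
      by_contra hcon
      have h4 : 13 ^ 2 ∣ 2 ^ 9 * 3 ^ 6 * 5 * 13 := (pow_dvd_pow 13 (by omega)).trans h1
      omega
    rw [hj1, pow_one] at hT
    have h5 := small_bound (k := 3) Nat.prime_three (by norm_num) (by norm_num) hcard hTn hT (by
      intro j h1 h2 h3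
      interval_cases j
      · exact absurd h3 (by decide)
      · exact absurd h3 (by decide)
      · rfl
      · exact absurd h3 (by decide))
    exact h5.trans (by norm_num)

/-- if only one prime occurs then `C(A) / S` acts faithfully on `X_q` -/
theorem relIndex_le_range {Q : Finset ℕ} {m : ℕ → ℕ} (hD : D.Num Q m) {q : ℕ} (hQ : ∀ q' ∈ Q, q' = q) :
    D.S.relIndex (Subgroup.centralizer (D.A : Set H)) ≤ Nat.card (rho D q).range := by
  set C := Subgroup.centralizer (D.A : Set H) with hC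
  have h1 : D.S.relIndex C = Nat.card (C ⧸ D.S.subgroupOf C) := rfl
  rw [h1]
  let f : C ⧸ D.S.subgroupOf C → (rho D q).range := fun x => (rho D q).rangeRestrict (x.out : C)
  refine Nat.card_le_card_of_injective f ?_
  intro x y hxy
  have h2 : ((y.out : C) : H)⁻¹ * ((x.out : C) : H) ∈ D.S := by
    refine mem_of_triv D hD (C.mul_mem (C.inv_mem y.out.2) x.out.2) ?_
    intro q' hq'
    rw [hQ q' hq', ← rho_eq_one_iff, map_mul, map_inv]
    have h3 : rho D q ((x.out : C) : H) = rho D q ((y.out : C) : H) := congrArg Subtype.val hxy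
    rw [h3, inv_mul_cancel]
  rw [← QuotientGroup.out_eq' x, ← QuotientGroup.out_eq' y, eq_comm, QuotientGroup.eq, Subgroup.mem_subgroupOf]
  exact h2

/-- `e = q ^ m q` : only one prime occurs -/
theorem only_one {Q : Finset ℕ} {m : ℕ → ℕ} (hD : D.Num Q m) {q : ℕ} (hq : q ∈ Q)
    (he : ∏ q ∈ Q, q ^ m q = q ^ m q) : ∀ q' ∈ Q, q' = q := by
  intro q' hq'
  by_contra hne
  rw [← Finset.mul_prod_erase Q (fun q => q ^ m q) hq] at he
  have h0 : 0 < q ^ m q := pow_pos (hD.prime q hq).pos _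
  have h1 : ∏ x ∈ Q.erase q, x ^ m x = 1 := Nat.eq_of_mul_eq_mul_left h0 (by rw [he, mul_one])
  have h2 := Finset.prod_eq_one_iff.1 h1 q' (Finset.mem_erase.2 ⟨hne, hq'⟩)
  have h3 := Nat.one_lt_pow (by have := hD.one_le q' hq'; omega : m q' ≠ 0) (hD.prime q' hq').one_lt
  omega

/-- the action of the image on `X_q` -/
theorem fh_two_im [Group.IsSolvable H] {Q : Finset ℕ} {m : ℕ → ℕ} (hD : D.Num Q m) {q : ℕ} (hq : q ∈ Q)
    {L : Subgroup H} [L.Normal] (hodd : ¬ 2 ∣ Nat.card L)
    (h : (q = 3 ∧ 2 * m q ≤ 8) ∨ (q = 5 ∧ 2 * m q ≤ 4) ∨ 2 * m q ≤ 2) : FH 2 (im D q L) := by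
  have hs : Group.IsSolvable (rho D q).range :=
    Group.isSolvable_of_surjective (rho D q).rangeRestrict_surjective
  let _ := act ((rho D q).range.subtype.comp (im D q L).subtype)
  have hXf : Finite (Additive (XQ D q)) := inferInstanceAs (Finite (XQ D q))
  refine H273.RC.fhs_odd' (X := Additive (XQ D q)) inferInstance ?_ (hD.prime q hq) (fun x => cl_pow D q x.toMul)
    (card_XQ D hD hq) ?_ (fun N hN hNq => im_core D (hD.prime q hq) L N hN hNq) h
  · rw [← Nat.not_even_iff_odd, even_iff_two_dvd]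
    exact fun h1 => hodd (h1.trans (Subgroup.card_map_dvd _ _))
  · intro g hg
    refine Subtype.ext (Subtype.ext ?_)
    ext x
    exact congrArg Subtype.val (hg (Additive.ofMul x))

end

/-- **PR2** -/
theorem corePrim_two : CorePrim.{u} 2 3 2 4 := by
  classical
  intro H W _ _ _ _ _ _ _ L r hL hr hr2 hrW hfaith hirr hI
  have hLn := hL.normal
  have hirrH : Irr H W := fun X hX => hirr X fun g _ => hX g
  obtain ⟨F, iF, iFin, iMod, ⟨D⟩⟩ := existsPrim H W r hr hrW hfaith hirrH hI
  obtain ⟨Q, m, hD⟩ := H308.ClsNum.exists_num H W F D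
  have hAn := D.A_normal
  have hSn := D.S_normal
  have h2Q : 2 ∉ Q := not_mem_Q D Nat.prime_two hL hfaith hirr hD
  have hfin : Module.Finite F W := Module.Finite.of_finite
  set f := Nat.card F with hf
  set d := Module.finrank F W with hd
  set e := ∏ q ∈ Q, q ^ m q with he
  set N := Nat.card H with hN
  have hN0 : 0 < N := Nat.card_pos
  have hWcard : Nat.card W = f ^ d := Module.natCard_eq_pow_finrank (K := F) (V := W)
  have hf2 : 2 ≤ f := Finite.one_lt_card
  have hd0 : 0 < d := Module.finrank_pos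
  have hed : e ≤ d := hD.le_finrank
  have hV : f ^ e ≤ Nat.card W := by
    rw [hWcard]
    exact Nat.pow_le_pow_right (by omega) hed
  -- `f` is odd
  have hfodd : ¬ 2 ∣ f := by
    intro h
    have h1 : 2 ∣ Nat.card W := by
      rw [hWcard]
      exact h.trans (dvd_pow_self f hd0.ne')
    have : Fact (Nat.Prime 2) := ⟨Nat.prime_two⟩
    obtain ⟨w, hw⟩ := exists_prime_addOrderOf_dvd_card' 2 h1
    have h2 : addOrderOf w ∣ r := addOrderOf_dvd_of_nsmul_eq_zero (hrW w)
    rw [hw] at h2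
    exact hr2 ((Nat.prime_dvd_prime_iff_eq Nat.prime_two hr).1 h2).symm
  obtain ⟨p, k, hp, hpk⟩ : ∃ p k : ℕ, p.Prime ∧ f = p ^ k := by
    have : Fintype F := Fintype.ofFinite F
    obtain ⟨p, _, k, hp, hF⟩ := FiniteField.card' F
    exact ⟨p, k, hp, by rw [hf, Nat.card_eq_fintype_card, hF]⟩
  have hk0 : k ≠ 0 := by
    rintro rfl
    rw [pow_zero] at hpk
    omega
  have hp3 : 3 ≤ p := by
    have h1 := hp.two_le
    rcases Nat.lt_or_ge p 3 with h | h
    · exfalso
      have h2 : p = 2 := by omega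
      apply hfodd
      rw [hpk, h2]
      exact dvd_pow_self 2 hk0
    · exact h
  -- the Galois group
  set g := Nat.card D.σ.range with hg
  have hgk : g ≤ k := H120.RC.card_range_le D hp hpk
  have hg3 : 3 ^ g ≤ f := by
    rw [hpk]
    exact (Nat.pow_le_pow_right (by norm_num) hgk).trans (Nat.pow_le_pow_left hp3 k)
  have hg2 : g ^ 2 ≤ f := (sq_le_three_pow g).trans hg3
  have hNle : N ≤ g * (f - 1) * e ^ 8 := H120.RC.card_le D hD
  -- the primes
  have hqf : ∀ q ∈ Q, 2 * q + 1 ≤ f ∧ 3 ≤ q ∧ q ∣ f - 1 ∧ q.Prime := by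
    intro q hq
    have h1 := hD.prime q hq
    have h2 := hD.dvd q hq
    have hq2 : q ≠ 2 := fun h => h2Q (h ▸ hq)
    have h3 := h1.two_le
    have h4 : 2 ∣ f - 1 := by omega
    have h5 : 2 * q ∣ f - 1 :=
      Nat.Coprime.mul_dvd_of_dvd_of_dvd ((Nat.coprime_primes Nat.prime_two h1).2 (Ne.symm hq2)) h4 h2
    have h6 := Nat.le_of_dvd (by omega) h5
    exact ⟨by omega, by omega, h2, h1⟩
  have hqe : ∀ q ∈ Q, q ^ m q ∣ e := fun q hq => Finset.dvd_prod_of_mem _ hq
  have he0 : 0 < e := Finset.prod_pos fun q hq => pow_pos (hD.prime q hq).pos _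
  have hf15 : f ≠ 15 := by
    intro h
    have h3 : 3 ∣ p ^ k := by rw [← hpk, h]; norm_num
    have h5 : 5 ∣ p ^ k := by rw [← hpk, h]; norm_num
    have h3' := (Nat.prime_dvd_prime_iff_eq Nat.prime_three hp).1 (Nat.prime_three.dvd_of_dvd_pow h3)
    have h5' := (Nat.prime_dvd_prime_iff_eq Nat.prime_five hp).1 (Nat.prime_five.dvd_of_dvd_pow h5)
    omega
  by_cases hbad : ∀ y : H, PEl 2 y → FH 3 (⁅L, Subgroup.zpowers y⁆ : Subgroup H)
  · -- all vectors are good
    by_cases hFH : FH 2 L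
    · exact Or.inl hFH
    right
    -- some image is nontrivial
    obtain ⟨q, hq, hne⟩ : ∃ q ∈ Q, im D q L ≠ ⊥ := by
      by_contra hcon
      push Not at hcon
      apply hFH
      have h1 : FH 1 (L ⊓ Subgroup.centralizer (D.A : Set H) : Subgroup H) := by
        by_contra h
        obtain ⟨q, hq, h2⟩ := exists_part D hD (t := 0) inf_le_right h
        apply h2
        rw [FH.zero_iff, ← not_nontrivial_iff_subsingleton, Subgroup.nontrivial_iff_ne_bot, not_not, eq_bot_iff,
          ← hcon q hq]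
        exact im_mono D inf_le_left
      let φ : L →* (F ≃+* F) := D.σ.comp L.subtype
      have h2 : FH 1 φ.ker := by
        have h3 : ∀ x : φ.ker, ((x : L) : H) ∈ (L ⊓ Subgroup.centralizer (D.A : Set H) : Subgroup H) := by
          intro x
          refine ⟨(x : L).2, ?_⟩
          rw [← D.σ_ker]
          exact x.2
        let ψ : φ.ker →* (L ⊓ Subgroup.centralizer (D.A : Set H) : Subgroup H) :=
          (L.subtype.comp φ.ker.subtype).codRestrict _ h3
        refine h1.of_injective ψ ?_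
        intro a b hab
        have h4 : (ψ a : H) = (ψ b : H) := congrArg Subtype.val hab
        exact Subtype.ext (Subtype.ext h4)
      have h3 : FH 1 φ.range := by
        rw [FH.one_iff]
        have h5 : ∀ a b : φ.range, a * b = b * a := fun a b => Subtype.ext (ringEquiv_comm _ _)
        let _ : CommGroup φ.range := { (inferInstance : Group φ.range) with mul_comm := h5 }
        infer_instance
      exact FH.of_hom φ h2 h3
    obtain ⟨hf1, hq3, hqd, hqp⟩ := hqf q hq
    have hm1 := hD.one_le q hq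
    have hqme := hqe q hq
    -- the inequality
    have key : 2 * N + 1 < Nat.card W := by
      have hqm : q ^ m q ≤ e := Nat.le_of_dvd he0 hqme
      have hge : ∀ s c : ℕ, 2 ≤ s → c ≤ f → s ≤ e → 4 * s ^ 16 < c ^ (2 * s - 3) → (s + 1) ^ 16 ≤ c ^ 2 * s ^ 16 →
          2 * N + 1 < Nat.card W := by
        intro s c hs hc hse h1 h2
        refine num_good (by omega) hg2 (by omega) hNle hN0 hV ?_
        have h3 := pow_ineq (k := 2) (s := 3) (by omega) (by omega) h2 h1 e hse
        exact h3.trans_le (Nat.pow_le_pow_left hc _)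
      have hq5 : q = 3 ∨ q = 5 ∨ q = 7 ∨ q = 11 ∨ 13 ≤ q := by
        by_contra hcon
        push Not at hcon
        obtain ⟨h1, h2, h3, h4, h5⟩ := hcon
        have h6 : q < 13 := h5
        interval_cases q <;> first | omega | exact absurd hqp (by decide)
      rcases hq5 with rfl | rfl | rfl | rfl | hq13
      · -- `q = 3`
        rcases Nat.lt_or_ge (m 3) 2 with h2 | h2
        · exact (false_three D hD hq (by omega) hL.cop hne).elim
        have h9 : 9 ∣ e := (pow_dvd_pow 3 h2).trans hqme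
        obtain ⟨e', he'⟩ := h9
        rcases Nat.lt_or_ge e 18 with h18 | h18
        · have he9 : e = 9 := by omega
          have hm2 : m 3 = 2 := by
            by_contra h
            have h3 : 3 ^ 3 ≤ 3 ^ m 3 := Nat.pow_le_pow_right (by norm_num) (by omega)
            omega
          rcases Nat.lt_or_ge f 13 with h13 | h13
          · have hf7 : f = 7 := by
              have h3 : 3 ∣ f - 1 := hqd
              omega
            have hg1 : g ≤ 1 := by
              by_contra h
              have h3 : 3 ^ 2 ≤ 3 ^ g := Nat.pow_le_pow_right (by norm_num) (by omega)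
              omega
            have h3 : D.S.relIndex (Subgroup.centralizer (D.A : Set H)) ≤ 26244 :=
              (relIndex_le_range D hD (only_one D hD hq (by rw [← he, he9, hm2]; norm_num))).trans
                (range_three D hD hq hm2 hL.cop hne)
            have h4 := H120.RC.card_eq D
            have h5 : Nat.card D.A ≤ 6 := (H120.RC.card_A_le D).trans (by rw [← hf, hf7])
            rw [hD.relIndex, ← he, he9, ← hN, ← hg] at h4
            have h6 : N ≤ 1 * 26244 * 9 ^ 2 * 6 := by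
              rw [h4]
              gcongr
            rw [he9, hf7] at hV
            have h7 : (7 : ℕ) ^ 9 = 40353607 := by norm_num
            omega
          · exact hge 9 13 (by norm_num) h13 he9.ge (by norm_num) (by norm_num)
        · exact hge 18 7 (by norm_num) (by omega) h18 (by norm_num) (by norm_num)
      · -- `q = 5`
        have h5 : 5 ∣ e := (dvd_pow_self 5 (by omega)).trans hqme
        rcases Nat.lt_or_ge e 10 with h10 | h10
        · have he5 : e = 5 := by omega
          have hm1' : m 5 = 1 := by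
            by_contra h
            have h3 : 5 ^ 2 ≤ 5 ^ m 5 := Nat.pow_le_pow_right (by norm_num) (by omega)
            omega
          have h3 : D.S.relIndex (Subgroup.centralizer (D.A : Set H)) ≤ 50 :=
            (relIndex_le_range D hD (only_one D hD hq (by rw [← he, he5, hm1']; norm_num))).trans
              (range_five D hD hq hm1' hL.cop hne)
          have h4 := H120.RC.card_eq D
          have h5 : Nat.card D.A ≤ f - 1 := H120.RC.card_A_le D
          rw [hD.relIndex, ← he, he5, ← hN, ← hg] at h4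
          have h6 : N ≤ g * 50 * 5 ^ 2 * (f - 1) := by
            rw [h4]
            gcongr
          rw [he5] at hV
          have hFf : Finite (F ≃+* F) := DFunLike.finite _
          have hg0 : 0 < g := Nat.card_pos
          have h7 : (2500 * g * f) ^ 2 < (f ^ 5) ^ 2 := by
            calc (2500 * g * f) ^ 2 = 6250000 * g ^ 2 * f ^ 2 := by ring
              _ ≤ 6250000 * f * f ^ 2 := by gcongr
              _ = 6250000 * f ^ 3 := by ring
              _ < f ^ 7 * f ^ 3 := by
                refine Nat.mul_lt_mul_of_pos_right ?_ (by positivity)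
                calc 6250000 < 11 ^ 7 := by norm_num
                  _ ≤ f ^ 7 := Nat.pow_le_pow_left (by omega) 7
              _ = (f ^ 5) ^ 2 := by ring
          have h8 := lt_of_pow_lt_pow_left₀ 2 (Nat.zero_le _) h7
          have h9 : 2 * (g * 50 * 5 ^ 2 * (f - 1)) + 2 ≤ 2500 * g * f := by
            obtain ⟨f', hf'⟩ : ∃ f', f = f' + 1 := ⟨f - 1, by omega⟩
            rw [hf', Nat.add_sub_cancel]
            nlinarith
          omega
        · exact hge 10 11 (by norm_num) (by omega) h10 (by norm_num) (by norm_num)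
      · -- `q = 7`
        have h7 : 7 ∣ e := (dvd_pow_self 7 (by omega)).trans hqme
        have h29 : 29 ≤ f := by
          have h3 : 7 ∣ f - 1 := hqd
          omega
        exact hge 7 29 (by norm_num) h29 (Nat.le_of_dvd he0 h7) (by norm_num) (by norm_num)
      · -- `q = 11`
        have h11 : 11 ∣ e := (dvd_pow_self 11 (by omega)).trans hqme
        exact hge 11 23 (by norm_num) (by omega) (Nat.le_of_dvd he0 h11) (by norm_num) (by norm_num)
      · have h13 : q ≤ e := Nat.le_of_dvd he0 ((dvd_pow_self q (by omega)).trans hqme)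
        exact hge 13 7 (by norm_num) (by omega) (by omega) (by norm_num) (by norm_num)
    -- four orbits
    have h3 : 2 * Nat.card H < ({w : W | w ≠ 0}).ncard := by
      have h4 : ({w : W | w ≠ 0}).ncard = Nat.card W - 1 := by
        have h5 : {w : W | w ≠ 0} = ({0} : Set W)ᶜ := rfl
        rw [h5, Set.ncard_compl, Set.ncard_singleton]
      rw [h4]
      omega
    obtain ⟨fo, h4, h5⟩ := orbs_of_card 2 _ h3
    refine ⟨Fin.cons 0 fo, fun i y hy _ => hbad y hy, ?_⟩
    intro i j
    refine Fin.cases ?_ (fun i => ?_) i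
    · refine Fin.cases (fun _ _ => rfl) (fun j h hh => ?_) j
      exfalso
      rw [Fin.cons_zero, Fin.cons_succ, smul_zero] at hh
      exact h4 j hh.symm
    · refine Fin.cases (fun h hh => ?_) (fun j h hh => ?_) j
      · exfalso
        rw [Fin.cons_succ, Fin.cons_zero] at hh
        exact h4 i ((smul_eq_zero_iff_eq h).1 hh)
      · rw [Fin.cons_succ, Fin.cons_succ] at hh
        rw [h5 i j h hh]
  · -- bad elements
    push Not at hbad
    obtain ⟨y, -, hy⟩ := hbad
    obtain ⟨q, hq, h1⟩ := exists_part D hD (t := 2) (D.commutator_le L (Subgroup.zpowers y)) hy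
    have h2 : ¬ FH 2 (im D q L) := fun h => h1 (FH.of_le (im_mono D (Subgroup.commutator_le_left _ _)) h)
    have h3 : ¬ ((q = 3 ∧ 2 * m q ≤ 8) ∨ (q = 5 ∧ 2 * m q ≤ 4) ∨ 2 * m q ≤ 2) := fun h =>
      h2 (fh_two_im D hD hq hL.cop h)
    obtain ⟨hf1, hq3, hqd, hqp⟩ := hqf q hq
    have hqm : q ^ m q ≤ e := Nat.le_of_dvd he0 (hqe q hq)
    have hge : ∀ s c : ℕ, 6 ≤ s → c ≤ f → s ≤ e → 256 * s ^ 32 < c ^ (1 * s - 6) →
        (s + 1) ^ 32 ≤ c ^ 1 * s ^ 32 → 256 * N ^ 4 < Nat.card W := by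
      intro s c hs hc hse h1 h2
      refine num_bad (by omega) hg2 (by omega) hNle hV ?_
      have h3 := pow_ineq (k := 1) (s := 6) (by omega) (by omega) h2 h1 e hse
      rw [one_mul] at h3
      exact h3.trans_le (Nat.pow_le_pow_left hc _)
    have key : 256 * N ^ 4 < Nat.card W := by
      rcases Nat.lt_or_ge q 7 with h7 | h7
      · have h125 : 125 ≤ e := by
          have h4 : q = 3 ∨ q = 5 := by
            interval_cases q
            · exact Or.inl rfl
            · exact absurd hqp (by decide)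
            · exact Or.inr rfl
            · exact absurd hqp (by decide)
          rcases h4 with rfl | rfl
          · have h5 : 3 ^ 5 ≤ 3 ^ m 3 := Nat.pow_le_pow_right (by norm_num) (by omega)
            omega
          · have h5 : 5 ^ 3 ≤ 5 ^ m 5 := Nat.pow_le_pow_right (by norm_num) (by omega)
            omega
        exact hge 125 7 (by norm_num) (by omega) h125 (by norm_num) (by norm_num)
      · have h49 : 49 ≤ e := by
          have h5 : q ^ 2 ≤ q ^ m q := Nat.pow_le_pow_right (by omega) (by omega)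
          nlinarith
        have h23 : 23 ≤ f := by
          have h5 : q = 7 ∨ 11 ≤ q := by
            by_contra hcon
            push Not at hcon
            obtain ⟨h5, h6⟩ := hcon
            interval_cases q <;> first | omega | exact absurd hqp (by decide)
          rcases h5 with rfl | h5
          · have h3 : 7 ∣ f - 1 := hqd
            omega
          · omega
        exact hge 49 23 (by norm_num) h23 h49 (by norm_num) (by norm_num)
    right
    have h4 := many_good (L := L) (p := 2) (t := 3)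
      (fun y hy => card_fix_le hr hrW hfaith hirrH hI hy) key
    exact orbs_of_card 3 _ h4

end Cfsg.Agent.H855.RC
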