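import Cfsg.Agent.H527.RC.FHB
import Cfsg.Agent.H527.RC.Stmts
import Cfsg.Agent.H822.Cls.RelIx
import Cfsg.Agent.H822.Cls.PrimAux
import Cfsg.Agent.H668.Dim.NotMem

/-!
# Primitive solvable linear groups with a normal `p`-complement (helper855, S4191)

* `comm_of_cent` : the centralizer of an irreducible group is commutative;
* `not_mem_Q` : `p` does not divide `|S / A|`;
* `exists_part` : if `E ≤ C(A)` does not have Fitting height `t + 1`, then the image of `E` on some `X_q` does not have
  Fitting height `t`;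
* `im_core` : the image of a normal subgroup on `X_q` has no normal `q`-subgroups.
-/

set_option autoImplicit false
set_option linter.unusedSectionVars false

namespace Cfsg.Agent.H855.RC

open scoped Pointwise commutatorElement
open Cfsg.Agent.H527.RC Cfsg.Agent.H822.Cls Cfsg.Agent.H668.Dim

universe u

/-- Wedderburn: the centralizer of an irreducible group is commutative. -/
theorem comm_of_cent {H W : Type*} [Group H] [AddCommGroup W] [Finite W] [Nontrivial W] [DistribMulAction H W]
    (L : Subgroup H) (hfaith : ∀ h : H, (∀ w : W, h • w = w) → h = 1)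
    (hirr : ∀ X : AddSubgroup W, (∀ g ∈ L, ∀ w ∈ X, g • w ∈ X) → X = ⊥ ∨ X = ⊤) {x y : H}
    (hx : ∀ g ∈ L, x * g = g * x) (hy : ∀ g ∈ L, y * g = g * y) : x * y = y * x := by
  let φ : H →* AddMonoid.End W := DistribMulAction.toAddMonoidEnd H W
  have hφ : ∀ (h : H) (w : W), φ h w = h • w := fun h w => rfl
  let Z : Subring (AddMonoid.End W) := Subring.centralizer (φ '' (L : Set H))
  have hZ : ∀ z : AddMonoid.End W, z ∈ Z ↔ ∀ g ∈ L, ∀ w : W, g • z w = z (g • w) := by
    intro z
    rw [Subring.mem_centralizer_iff]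
    constructor
    · intro h g hg w
      exact DFunLike.congr_fun (h (φ g) ⟨g, hg, rfl⟩) w
    · rintro h _ ⟨g, hg, rfl⟩
      ext w
      exact h g hg w
  have hfin : Finite (AddMonoid.End W) := by
    have : Finite (W →+ W) := DFunLike.finite _
    exact this
  have hker : ∀ z ∈ Z, z ≠ 0 → ∀ w, z w = 0 → w = 0 := by
    intro z hz hz0 w hw
    let z' : W →+ W := z
    rcases hirr z'.ker (by
      intro g hg v hv
      have hv' : z v = 0 := hv
      change z (g • v) = 0
      rw [← (hZ z).1 hz g hg v, hv', smul_zero]) with h | h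
    · have h1 : w ∈ z'.ker := hw
      rw [h, AddSubgroup.mem_bot] at h1
      exact h1
    · exfalso
      apply hz0
      ext v
      have h1 : v ∈ z'.ker := by rw [h]; exact AddSubgroup.mem_top v
      exact h1
  have hdom : IsDomain Z := by
    have h1 : NoZeroDivisors Z := by
      refine ⟨fun {a b} hab => ?_⟩
      by_contra hcon
      push Not at hcon
      obtain ⟨ha, hb⟩ := hcon
      apply hb
      apply Subtype.ext
      ext w
      refine hker a a.2 (fun h => ha (Subtype.ext h)) _ ?_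
      have h2 : (a * b : Z) = 0 := hab
      exact DFunLike.congr_fun (congrArg Subtype.val h2) w
    have h2 : Nontrivial Z := by
      refine ⟨0, 1, fun h => ?_⟩
      obtain ⟨w, hw⟩ := exists_ne (0 : W)
      exact hw (DFunLike.congr_fun (congrArg Subtype.val h) w).symm
    exact NoZeroDivisors.to_isDomain Z
  have hfield := Finite.isDomain_to_isField Z
  have hmem : ∀ z : H, (∀ g ∈ L, z * g = g * z) → φ z ∈ Z := by
    intro z hz
    rw [hZ]
    intro g hg w
    rw [hφ, hφ, ← mul_smul, ← mul_smul, hz g hg]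
  have h3 := hfield.mul_comm ⟨φ x, hmem x hx⟩ ⟨φ y, hmem y hy⟩
  have h4 : φ (x * y) = φ (y * x) := by
    rw [map_mul, map_mul]
    exact congrArg Subtype.val h3
  have h5 : (y * x)⁻¹ * (x * y) = 1 := by
    apply hfaith
    intro w
    have h6 : (x * y) • w = (y * x) • w := DFunLike.congr_fun h4 w
    rw [mul_smul, h6, inv_smul_smul]
  exact (inv_mul_eq_one.1 h5).symm

section

variable {H W F : Type u} [Group H] [Finite H] [AddCommGroup W] [Finite W] [Nontrivial W] [DistribMulAction H W]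
  [Field F] [Finite F] [Module F W] (D : Prim H W F)

/-- the `p`-elements of `S` centralize `L` -/
theorem elt_comm {p : ℕ} (hp : p.Prime) {L : Subgroup H} (hL : LP p L) {u : H} (hu : u ∈ D.S)
    (hup : ∃ k : ℕ, u ^ p ^ k = 1) : ∀ g ∈ L, u * g = g * u := by
  have hpf : Fact p.Prime := ⟨hp⟩
  have hSn := D.S_normal
  have hnil : Group.IsNilpotent D.S := D.isNilpotent_of_le D.S le_rfl
  obtain ⟨k, hk⟩ := hup
  have hpu : IsPGroup p (Subgroup.zpowers (⟨u, hu⟩ : D.S)) := by
    rintro ⟨x, i, rfl⟩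
    refine ⟨k, Subtype.ext (Subtype.ext ?_)⟩
    change (u ^ i) ^ p ^ k = 1
    rw [← zpow_natCast, ← zpow_mul, mul_comm i, zpow_mul, zpow_natCast, hk, one_zpow]
  obtain ⟨T, hT⟩ := hpu.exists_le_sylow
  have hTn : (T : Subgroup D.S).Normal := by
    have := (Group.isNilpotent_of_finite_tfae (G := D.S)).out 0 3 |>.1 hnil
    exact this p hpf T
  have hTc : (T : Subgroup D.S).Characteristic := T.characteristic_of_normal hTn
  have hTm : ((T : Subgroup D.S).map D.S.subtype).Normal := inferInstance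
  have hTp : IsPGroup p ((T : Subgroup D.S).map D.S.subtype) := T.isPGroup'.map _
  have huT : u ∈ (T : Subgroup D.S).map D.S.subtype := ⟨⟨u, hu⟩, hT (Subgroup.mem_zpowers _), rfl⟩
  have hdis : Disjoint ((T : Subgroup D.S).map D.S.subtype) L := by
    apply Subgroup.disjoint_of_coprime_natCard
    obtain ⟨n, hn⟩ := IsPGroup.iff_card.1 hTp
    rw [hn]
    exact Nat.Coprime.pow_left n ((Nat.Prime.coprime_iff_not_dvd hp).2 hL.cop)
  intro g hg
  exact Subgroup.commute_of_normal_of_disjoint _ _ hTm hL.normal hdis u g huT hg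

theorem mem_A_of_XL {p : ℕ} (hp : p.Prime) {L : Subgroup H} (hL : LP p L)
    (hfaith : ∀ h : H, (∀ w : W, h • w = w) → h = 1)
    (hirr : ∀ X : AddSubgroup W, (∀ g ∈ L, ∀ w ∈ X, g • w ∈ X) → X = ⊥ ∨ X = ⊤) {s : H} (hs : s ∈ XL D p) :
    s ∈ D.A := by
  obtain ⟨n, hn, k, hk⟩ := exists_pow_eq s hp
  refine pow_mem_iff D hn hs.2 ?_
  have htS : s ^ n ∈ D.S := D.S.pow_mem hs.1 n
  have hs1 := elt_comm D hp hL htS ⟨k, hk⟩
  apply D.cent_le
  rw [Subgroup.mem_centralizer_iff]
  intro t ht
  obtain ⟨n', hn', k', hk'⟩ := exists_pow_eq t hp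
  have h1 : s ^ n * t ^ n' = t ^ n' * s ^ n :=
    comm_of_cent L hfaith hirr hs1 (elt_comm D hp hL (D.S.pow_mem ht n') ⟨k', hk'⟩)
  obtain ⟨j, hj⟩ := hL.isP t
  have h2 : s ^ n * t ^ p ^ j = t ^ p ^ j * s ^ n := hs1 _ hj
  have h3 : t ∈ Subgroup.centralizer ({s ^ n} : Set H) := by
    have h4 : t ^ n' ∈ Subgroup.centralizer ({s ^ n} : Set H) := Subgroup.mem_centralizer_singleton_iff.2 h1.symm
    have h5 : t ^ p ^ j ∈ Subgroup.centralizer ({s ^ n} : Set H) := Subgroup.mem_centralizer_singleton_iff.2 h2.symm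
    have h6 := Nat.gcd_eq_gcd_ab (p ^ j) n'
    rw [(Nat.Coprime.pow_left j hn').gcd_eq_one] at h6
    have h7 : t = (t ^ p ^ j) ^ ((p ^ j).gcdA n') * (t ^ n') ^ ((p ^ j).gcdB n') := by
      rw [← zpow_natCast t (p ^ j), ← zpow_natCast t n', ← zpow_mul, ← zpow_mul, ← zpow_add, ← h6, Nat.cast_one,
        zpow_one]
    rw [h7]
    exact mul_mem (zpow_mem h5 _) (zpow_mem h4 _)
  exact (Subgroup.mem_centralizer_singleton_iff.1 h3)

/-- `p` does not divide `|S / A|` -/
theorem not_mem_Q {p : ℕ} (hp : p.Prime) {L : Subgroup H} (hL : LP p L)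
    (hfaith : ∀ h : H, (∀ w : W, h • w = w) → h = 1)
    (hirr : ∀ X : AddSubgroup W, (∀ g ∈ L, ∀ w ∈ X, g • w ∈ X) → X = ⊥ ∨ X = ⊤) {Q : Finset ℕ} {m : ℕ → ℕ}
    (hD : D.Num Q m) : p ∉ Q := by
  intro hpQ
  have h1 := hD.card_part p hpQ (XL D p) (fun s => mem_XL D)
  have h2 : D.A.relIndex (XL D p) = 1 := by
    rw [Subgroup.relIndex_eq_one]
    exact fun s hs => mem_A_of_XL D hp hL hfaith hirr hs
  rw [h2] at h1
  have h3 := hD.one_le p hpQ
  have h4 : 1 < p ^ (2 * m p) := Nat.one_lt_pow (by omega) hp.one_lt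
  omega

/-- the image of a subgroup on `X_q` -/
noncomputable def im (q : ℕ) (E : Subgroup H) : Subgroup (rho D q).range := E.map (rho D q).rangeRestrict

instance im_normal (q : ℕ) (E : Subgroup H) [E.Normal] : (im D q E).Normal :=
  Subgroup.Normal.map inferInstance _ (rho D q).rangeRestrict_surjective

theorem im_mono {q : ℕ} {E E' : Subgroup H} (h : E ≤ E') : im D q E ≤ im D q E' := Subgroup.map_mono h

/-- a subgroup of `C(A)` is nilpotent modulo its actions on the `X_q` -/
theorem exists_part {Q : Finset ℕ} {m : ℕ → ℕ} (hD : D.Num Q m) {t : ℕ} {E : Subgroup H}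
    (hE : E ≤ Subgroup.centralizer (D.A : Set H)) (h : ¬ FH (t + 1) E) : ∃ q ∈ Q, ¬ FH t (im D q E) := by
  by_contra hcon
  push Not at hcon
  apply h
  let f : E →* ∀ q : Q, (rho D q).range := MonoidHom.pi fun q => (rho D q).rangeRestrict.comp E.subtype
  have hf : ∀ (x : E) (q : Q), f x q = (rho D q).rangeRestrict x := fun x q => rfl
  have h1 : FH 1 f.ker := by
    rw [FH.one_iff]
    have h2 : ∀ x : f.ker, ((x : E) : H) ∈ D.S := by
      intro x
      refine mem_of_triv D hD (hE (x : E).2) fun q hq => ?_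
      rw [← rho_eq_one_iff]
      have h3 := congrFun (MonoidHom.mem_ker.1 x.2) ⟨q, hq⟩
      rw [hf] at h3
      exact congrArg Subtype.val h3
    let g : f.ker →* D.S := (E.subtype.comp f.ker.subtype).codRestrict D.S h2
    have hg : Function.Injective g := by
      intro a b hab
      have h4 : (g a : H) = (g b : H) := congrArg Subtype.val hab
      exact Subtype.ext (Subtype.ext h4)
    exact isNilpotent_of_injective g hg (D.isNilpotent_of_le D.S le_rfl)
  have h2 : FH t f.range := by
    refine FH.of_family (ι := Q) (Hs := fun q => im D q E)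
      (fun q => ((Pi.evalMonoidHom (fun q : Q => (rho D q).range) q).comp f.range.subtype).codRestrict (im D q E) ?_)
      ?_ (fun q => hcon q q.2)
    · rintro ⟨_, x, rfl⟩
      exact ⟨x, x.2, rfl⟩
    · rintro ⟨_, x, rfl⟩ hx
      apply Subtype.ext
      funext q
      exact congrArg Subtype.val (hx q)
  have h3 := FH.of_hom f h1 h2
  rwa [add_comm] at h3

/-- the image of a normal subgroup on `X_q` has no nontrivial normal `q`-subgroup -/
theorem im_core {q : ℕ} (hq : q.Prime) (E : Subgroup H) [E.Normal] (N : Subgroup (im D q E)) (hN : N.Normal)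
    (hNq : IsPGroup q N) : N = ⊥ := by
  have hpf : Fact q.Prime := ⟨hq⟩
  set f := (rho D q).rangeRestrict with hf
  have hc : (Cfsg.pCore q (im D q E)).Characteristic := Lib.Cores.pCore_characteristic q
  set K := (Cfsg.pCore q (im D q E)).map (im D q E).subtype with hK
  have hKn : K.Normal := by rw [hK]; infer_instance
  have hKq : IsPGroup q K := (Lib.Cores.pCore_isPGroup q).map _
  have h1 : ∀ x ∈ K.comap f, ∃ k : ℕ, ∀ s ∈ D.S, s ^ q ∈ D.A → x ^ (q ^ k) * s * (x ^ (q ^ k))⁻¹ * s⁻¹ ∈ D.A := by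
    intro x hx
    obtain ⟨k, hk⟩ := hKq ⟨f x, hx⟩
    refine ⟨k, ?_⟩
    have h2 : rho D q (x ^ q ^ k) = 1 := by
      rw [map_pow]
      exact congrArg Subtype.val (congrArg Subtype.val hk)
    exact (rho_eq_one_iff D _).1 h2
  have h2 := D.ss q hq (K.comap f) inferInstance h1
  have h3 : K = ⊥ := by
    rw [eq_bot_iff]
    intro y hy
    obtain ⟨x, rfl⟩ := (rho D q).rangeRestrict_surjective y
    have h4 : rho D q x = 1 := (rho_eq_one_iff D x).2 (h2 x hy)
    exact Subgroup.mem_bot.2 (Subtype.ext h4)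
  have h4 : N ≤ Cfsg.pCore q (im D q E) := Lib.Cores.le_pCore hN hNq
  rw [eq_bot_iff]
  intro x hx
  have h5 : (x : (rho D q).range) ∈ K := ⟨x, h4 hx, rfl⟩
  rw [h3, Subgroup.mem_bot] at h5
  exact Subgroup.mem_bot.2 (Subtype.ext h5)

end

end Cfsg.Agent.H855.RC
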